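import Groth.Agent.VBCurve.K784.SubSemiAux
import Groth.Agent.VBCurve.K569.SubInv
import Groth.Agent.VBCurve.K471.SubD
import Groth.Agent.VBCurve.K226.Pow
import Groth.Agent.S2390
import Groth.Agent.S1522
import Groth.Agent.S16761
import Groth.Agent.Pic13.H969.BettiFam
import Groth.Agent.EssDim.K995.GenusField
import Groth.Agent.Curves.K330.CurveDim
import Groth.Agent.Curves.K340.BcH1
import Groth.Agent.VarietyB.KoszulShift

/-!
# The direct image of `q^* N(-∑ graphs)` (node SUB-RANK of S15230)

* `K433.SubRank.nonempty_slice`: the restriction of `q^* N(-∑ graphs of l)` to the slice over `t` is `N(-∑ l(t))`;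
* `fiberH_vanish`: the higher cohomology of all fibres vanishes if `deg N - |l| ≥ 2 g - 1`;
* `isZero_Rpush`: `R^j π_* = 0` for `j ≥ 1`;
* `isIso_bc`: the base change map of `K N l` is an isomorphism for every cartesian square;
* `K553.Sub.rank_K`: `K N l` is locally free of rank `deg N - |l| + 1 - g`.
-/

set_option autoImplicit false
universe u
open CategoryTheory CategoryTheory.Limits AlgebraicGeometry K553.Sub K784.SubSemi

namespace K433.SubRank

section gen

variable {S : Scheme.{u}} {C T : Over S}

/-- The restriction of the family to the slice over `t`. -/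
theorem nonempty_slice (t : pt S ⟶ T) (N : C.left.Modules) (l : List (T ⟶ C)) :
    Nonempty ((Scheme.Modules.pullback (sl (C := C) t).left).obj (tw N (up l) (qr C T)) ≅
      twp N (l.map fun z => t ≫ z)) := by
  obtain ⟨e, -⟩ := nonempty_tw_pull (sl (C := C) t) N (up l) (qr C T)
  have h1 : (up l).map (fun z => sl (C := C) t ≫ z) = (l.map fun z => t ≫ z).map cst := by
    unfold up
    rw [List.map_map, List.map_map]
    refine List.map_congr_left fun z _ => ?_
    simp only [Function.comp_apply, sl_pr_assoc, cst]
  have h2 : tw N ((up l).map fun z => sl (C := C) t ≫ z) (sl (C := C) t ≫ qr C T) =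
      twp N (l.map fun z => t ≫ z) := by
    rw [h1, sl_qr]
    rfl
  rw [h2] at e
  exact ⟨e⟩

end gen

section field

variable {k : Type u} [Field k] {C T : Over (Spec (CommRingCat.of k))}

theorem dim_fiber [LocallyOfFiniteType C.hom] (s : T.left) :
    topologicalKrullDim ↥((pr C T).left.fiber s) = topologicalKrullDim C.left := by
  have h1 : IsPullback (qr C T).left (pr C T).left C.hom T.hom := (IsPullback.of_hasPullback T.hom C.hom).flip
  have h2 : IsPullback ((pr C T).left.fiberι s) ((pr C T).left.fiberToSpecResidueField s) (pr C T).left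
      (T.left.fromSpecResidueField s) := IsPullback.of_hasPullback _ _
  have h3 := h2.paste_horiz h1
  exact K995.GenusField.dim_eq_of_isPullback (k := k) (k' := T.left.residueField s) h3

end field

section curve

variable {k : Type u} [Field k] [IsAlgClosed k] (C : Over (Spec (CommRingCat.of k)))
  [IsIntegral C.left] [IsProper C.hom] [Smooth C.hom] (hdim : topologicalKrullDim C.left = 1)
  {g : ℕ} (hgen : Curv2.genus k C.left = g) {T : Over (Spec (CommRingCat.of k))}
  [IsProper T.hom] {N : C.left.Modules} (hN : PicF.IsInvertible N) (l : List (T ⟶ C))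

set_option linter.unusedSectionVars false

include hdim hN in
theorem isCoh_tw : Coh.IsCoh (tw N (up l) (qr C T)) :=
  have : IsLocallyNoetherian T.left := LocallyOfFiniteType.isLocallyNoetherian T.hom
  have : IsLocallyNoetherian (TX C T).left := LocallyOfFiniteType.isLocallyNoetherian (pr C T).left
  Groth.Agent.Ega3B.PicTwist.isCoh_of_isInvertible (isInvertible_tw C hdim N hN _ _)

include hdim hN in
theorem isFlatOver_tw : FlatMod.IsFlatOver (pr C T).left (tw N (up l) (qr C T)) := by
  have h := Groth.Agent.Ega3B.FlatTensInv.isFlatOver_tensor (pr C T).left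
    (isInvertible_tw C hdim N hN (up l) (qr C T))
    (Groth.Agent.PerfB.StructFlat.isFlatOver_structure (pr C T).left)
  intro x
  exact Groth.Agent.Models2.FlatIso.isFlatOverAt_of_iso _ (Groth.Agent.Ega2.Tens.lunit _) x (h x)

include hdim hN in
theorem isFP_tw : CohB1.IsFP (tw N (up l) (qr C T)) :=
  have : IsLocallyNoetherian T.left := LocallyOfFiniteType.isLocallyNoetherian T.hom
  have : IsLocallyNoetherian (TX C T).left := LocallyOfFiniteType.isLocallyNoetherian (pr C T).left
  (Groth.Agent.S0018.result _ _).1 (isCoh_tw C hdim hN l)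

variable (hl : 2 * (g : ℤ) - 1 ≤ Curv2.deg k C.left N 1 - l.length)

include hdim hN hgen hl in
/-- Vanishing on the fibres over the closed points. -/
theorem subsingleton_HH_twp (t : pt (Spec (CommRingCat.of k)) ⟶ T) (j : ℕ) (hj : 1 ≤ j) :
    Subsingleton (Coh.HH C.left (twp N (l.map fun z => t ≫ z)) j) := by
  have hp : IsProper (C.left ↘ Spec (CommRingCat.of k)) := ‹IsProper C.hom›
  have hinv : PicF.IsInvertible (twp N (l.map fun z => t ≫ z)) := isInvertible_tw C hdim N hN _ _
  rcases hj.lt_or_eq with h | rfl
  · have := Groth.Agent.CurvesB.CurveRR.isNoetherian_of_proper k C.left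
    exact Groth.Agent.CurvesB.CurveRR.subsingleton_HH_of_two_le hdim.le _ j h
  · refine Groth.Agent.S1522.result k C.left hdim _ hinv ?_
    rw [deg_twp C hdim N hN, List.length_map, hgen]
    exact hl

include hdim hN hgen hl in
theorem finrank_HH_twp (t : pt (Spec (CommRingCat.of k)) ⟶ T) :
    (Module.finrank k (Coh.HH C.left (twp N (l.map fun z => t ≫ z)) 0) : ℤ) =
      Curv2.deg k C.left N 1 - l.length + 1 - g := by
  have hp : IsProper (C.left ↘ Spec (CommRingCat.of k)) := ‹IsProper C.hom›
  have hinv : PicF.IsInvertible (twp N (l.map fun z => t ≫ z)) := isInvertible_tw C hdim N hN _ _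
  have h := K330.CurveDim.finrank_h0_of_deg k C.left hdim hinv (by
    rw [deg_twp C hdim N hN, List.length_map, hgen]
    exact hl)
  rw [h, deg_twp C hdim N hN, List.length_map, hgen]

include hdim hN hgen hl in
/-- **Vanishing on all fibres.** -/
theorem fiberH_vanish (s : T.left) (j : ℕ) (hj : 1 ≤ j) :
    Subsingleton (CohIII.fiberH (pr C T).left (tw N (up l) (qr C T)) s j) := by
  have hNT : IsLocallyNoetherian T.left := LocallyOfFiniteType.isLocallyNoetherian T.hom
  have hcT : CompactSpace T.left := QuasiCompact.compactSpace_of_compactSpace T.hom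
  have hI : HasInjectiveResolutions (TX C T).left.Modules := Groth.Agent.Dcoh.DerSch.hasInjectiveResolutions _
  have hfp' : LocallyOfFinitePresentation (pr C T).left :=
    inferInstanceAs (LocallyOfFinitePresentation (pullback.fst T.hom C.hom))
  have ho := (Groth.Agent.S16761.result (pr C T).left (tw N (up l) (qr C T)) (isFP_tw C hdim hN l)
    (isFlatOver_tw C hdim hN l) 1 (fun s => by rw [dim_fiber, hdim]; exact le_rfl)).1
  have key : {s : T.left | ∀ j : ℕ, 1 ≤ j →
      Subsingleton (CohIII.fiberH (pr C T).left (tw N (up l) (qr C T)) s j)} = Set.univ := by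
    by_contra hne
    have hne' : ({s : T.left | ∀ j : ℕ, 1 ≤ j →
      Subsingleton (CohIII.fiberH (pr C T).left (tw N (up l) (qr C T)) s j)}ᶜ).Nonempty := by
      rwa [Set.nonempty_compl]
    obtain ⟨y, hy, hyc⟩ := (isClosed_compl_iff.2 ho).exists_closed_singleton hne'
    obtain ⟨x, rfl, -⟩ := exists_pt y hyc
    refine hy fun j hj => ?_
    obtain ⟨i, rfl⟩ : ∃ i, j = i + 1 := ⟨j - 1, by omega⟩
    refine (K527.FibreVan.fiberH_iff (pr C T).left (tw N (up l) (qr C T)) (isCoh_tw C hdim hN l).1 x.left
      (sl (C := C) x).left C.hom (isPullback_sl x) i).2 ?_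
    obtain ⟨e⟩ := nonempty_slice x N l
    have := subsingleton_HH_twp C hdim hgen hN l hl x (i + 1) hj
    exact Groth.Agent.Flat2D.LocalGlobalH.subsingleton_HH_of_iso e.symm (i + 1) this
  exact (Set.eq_univ_iff_forall.1 key s) j hj

include hdim hN hgen hl in
/-- **The higher direct images vanish.** -/
theorem isZero_Rpush [HasInjectiveResolutions (TX C T).left.Modules] (j : ℕ) (hj : 1 ≤ j) :
    IsZero ((Coh.Rpush (pr C T).left j).obj (tw N (up l) (qr C T))) := by
  have hNT : IsLocallyNoetherian T.left := LocallyOfFiniteType.isLocallyNoetherian T.hom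
  have hfp' : LocallyOfFinitePresentation (pr C T).left :=
    inferInstanceAs (LocallyOfFinitePresentation (pullback.fst T.hom C.hom))
  have h := ((Groth.Agent.S16761.result (pr C T).left (tw N (up l) (qr C T)) (isFP_tw C hdim hN l)
    (isFlatOver_tw C hdim hN l) 1 (fun s => by rw [dim_fiber, hdim]; exact le_rfl)).2 ⊤
      (fun s _ j hj => fiberH_vanish C hdim hgen hN l hl s j hj)).1 j hj
  exact Groth.Agent.VarietyB.KoszulShift.isZero_of_restrict _ fun x => ⟨⊤, trivial, h⟩

include hdim hN hgen hl in
/-- **Base change** for `K N l`. -/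
theorem isIso_bc0 {X' Z : Scheme.{u}} (f : X' ⟶ (TX C T).left) (ζ : X' ⟶ Z) (α : Z ⟶ T.left)
    (h : IsPullback f ζ (pr C T).left α) :
    IsIso (CohBC.bc0 (pr C T).left α ζ f h.w (tw N (up l) (qr C T))) := by
  have hfp' : LocallyOfFinitePresentation (pr C T).left :=
    inferInstanceAs (LocallyOfFinitePresentation (pullback.fst T.hom C.hom))
  exact K340.BcH1.isIso_bc0 (pr C T).left (tw N (up l) (qr C T)) (isCoh_tw C hdim hN l).1
    (isFP_tw C hdim hN l) (isFlatOver_tw C hdim hN l)
    (fun y => fiberH_vanish C hdim hgen hN l hl y 1 le_rfl) f ζ α h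

end curve

end K433.SubRank

namespace K553.Sub

variable {k : Type u} [Field k] [IsAlgClosed k] (C : Over (Spec (CommRingCat.of k)))
  [IsIntegral C.left] [IsProper C.hom] [Smooth C.hom] (hdim : topologicalKrullDim C.left = 1)

section tower

variable {g : ℕ} (hgen : Curv2.genus k C.left = g) {T : Over (Spec (CommRingCat.of k))} [IsIntegral T.left]
  [IsProper T.hom] {N : C.left.Modules} (hN : PicF.IsInvertible N)

set_option linter.unusedSectionVars false in
include hdim hgen hN in
/-- rank of the direct image -/
theorem rank_K (l : List (T ⟶ C)) (hl : 2 * (g : ℤ) - 1 ≤ Curv2.deg k C.left N 1 - l.length) (r : ℕ)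
    (hr : (r : ℤ) = Curv2.deg k C.left N 1 - l.length + 1 - g) : FlatMod.IsFinLocFreeOfRank r (K N l) := by
  have hNT : IsLocallyNoetherian T.left := LocallyOfFiniteType.isLocallyNoetherian T.hom
  have hcT : CompactSpace T.left := QuasiCompact.compactSpace_of_compactSpace T.hom
  have hI : HasInjectiveResolutions (TX C T).left.Modules := Groth.Agent.Dcoh.DerSch.hasInjectiveResolutions _
  have hfree := (Groth.Agent.S2390.result (pr C T).left (tw N (up l) (qr C T)) (K433.SubRank.isCoh_tw C hdim hN l)
    (K433.SubRank.isFlatOver_tw C hdim hN l)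
    (fun i hi => K433.SubRank.isZero_Rpush C hdim hgen hN l hl i hi)).2
  intro y
  obtain ⟨c, hc, hcc⟩ := (isClosed_closure (s := ({y} : Set T.left))).exists_closed_singleton
    ⟨y, subset_closure rfl⟩
  obtain ⟨x, rfl, -⟩ := exists_pt c hcc
  obtain ⟨U, hcU, ⟨e⟩⟩ := hfree (atp x)
  have hy : y ∈ U := (specializes_iff_mem_closure.2 hc).mem_open U.isOpen hcU
  have hrk : CohIII.fiberRank (pr C T).left (tw N (up l) (qr C T)) 0 (atp x) = r := by
    have hinv := isInvertible_tw C hdim N hN (up l) (qr C T)
    have h1 := Groth.Agent.Pic13.H969.BettiFam.betti_eq_finrank (pr C T).left k x.left C.left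
      (sl (C := C) x).left (isPullback_sl x) (tw N (up l) (qr C T)) (K433.SubRank.isCoh_tw C hdim hN l).1 0
    obtain ⟨e'⟩ := K433.SubRank.nonempty_slice x N l
    have h2 := K433.SubRank.finrank_HH_twp C hdim hgen hN l hl x
    have h3 := (Groth.Agent.Fga.EulerIso.HHequiv k e' 0).finrank_eq
    have h4 : CohIII.fiberRank (pr C T).left (tw N (up l) (qr C T)) 0 (atp x) =
        Module.finrank k (Coh.HH C.left ((Scheme.Modules.pullback (sl (C := C) x).left).obj
          (tw N (up l) (qr C T))) 0) := h1
    rw [h4, h3]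
    have : (Module.finrank k (Coh.HH C.left (twp N (l.map fun z => x ≫ z)) 0) : ℤ) = r := by rw [h2, hr]
    exact_mod_cast this
  rw [hrk] at e
  exact ⟨U, hy, ⟨e⟩⟩

end tower

end K553.Sub
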